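import Groth.Agent.BlowUp.RelAmple
import Groth.Agent.ProjBundleLib.FTSub
import Groth.Agent.ProjBundleLib.Crit2
import Groth.Agent.S1695
import Groth.Agent.AmpleLib.Ideal

/-!
A blow-up in an ideal of finite type embeds in the bundle of the ideal, over any base.
-/

set_option autoImplicit false
set_option maxHeartbeats 1000000
set_option linter.style.haveILetI false

universe u

open CategoryTheory CategoryTheory.Limits AlgebraicGeometry TopologicalSpace Opposite
open RelProj Groth.Agent.ProjBundleLib Groth.Agent.Props.GenLocus OmegaSh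
open Groth.Agent.IdealSh Groth.Agent.Omega.Stalks

namespace Groth.Agent.BlowUpBundle95

variable {X X' : Scheme.{u}} {b : X' ⟶ X} {𝓘 : X.IdealSheafData}

/-- Functions in the ideal pull back to functions in the exceptional ideal. -/
lemma subschemeι_app_pull (U : X.Opens) (s : Γ(ClSub.idealMod 𝓘, U)) :
    (𝓘.comap b).subschemeι.app (b ⁻¹ᵁ U) (b.app U (idealSect 𝓘 U s)) = 0 := by
  have h1 : 𝓘 ≤ ((𝓘.comap b).subschemeι ≫ b).ker := by
    have : 𝓘 ≤ (𝓘.comap b).map b := Scheme.IdealSheafData.le_map_iff_comap_le.2 le_rfl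
    exact this
  let l := IsClosedImmersion.lift 𝓘.subschemeι ((𝓘.comap b).subschemeι ≫ b)
    (by rw [Scheme.IdealSheafData.ker_subschemeι]; exact h1)
  have hl : l ≫ 𝓘.subschemeι = (𝓘.comap b).subschemeι ≫ b := IsClosedImmersion.lift_fac _ _ _
  have h2 := Scheme.Hom.congr_app hl.symm U
  have h3 := congr($h2 (idealSect 𝓘 U s))
  rw [Scheme.Hom.comp_app, Scheme.Hom.comp_app] at h3
  refine h3.trans ?_
  show (𝓘.comap b).subscheme.presheaf.map _ (l.app _ (𝓘.subschemeι.app U (idealSect 𝓘 U s))) = 0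
  rw [IdealMod.app_sect]
  exact (congrArg _ (map_zero _)).trans (map_zero _)

/-- The pullback of sections of the ideal. -/
noncomputable def pullIdeal (U : X.Opens) (s : Γ(ClSub.idealMod 𝓘, U)) :
    Γ(ClSub.idealMod (𝓘.comap b), b ⁻¹ᵁ U) :=
  (IdealMod.exists_sect (𝓘.comap b) _ _ (subschemeι_app_pull U s)).choose

lemma idealSect_pullIdeal (U : X.Opens) (s : Γ(ClSub.idealMod 𝓘, U)) :
    idealSect (𝓘.comap b) (b ⁻¹ᵁ U) (pullIdeal U s) = b.app U (idealSect 𝓘 U s) :=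
  (IdealMod.exists_sect (𝓘.comap b) _ _ (subschemeι_app_pull U s)).choose_spec

lemma pullIdeal_add (U : X.Opens) (s t : Γ(ClSub.idealMod 𝓘, U)) :
    pullIdeal (b := b) U (s + t) = pullIdeal U s + pullIdeal U t :=
  idealSect_injective _ _ (by simp only [map_add, idealSect_pullIdeal])

lemma pullIdeal_smul (U : X.Opens) (r : Γ(X, U)) (s : Γ(ClSub.idealMod 𝓘, U)) :
    pullIdeal (b := b) U (r • s) = b.app U r • pullIdeal U s :=
  idealSect_injective _ _ (by simp only [idealSect_smul, map_mul, idealSect_pullIdeal])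

lemma pullIdeal_res {U V : X.Opens} (i : V ⟶ U) (s : Γ(ClSub.idealMod 𝓘, U)) :
    pullIdeal (b := b) V ((ClSub.idealMod 𝓘).presheaf.map i.op s) =
      (ClSub.idealMod (𝓘.comap b)).presheaf.map ((Opens.map b.base).map i).op (pullIdeal U s) :=
  idealSect_injective _ _ (by
    rw [idealSect_pullIdeal, idealSect_map, idealSect_map, idealSect_pullIdeal]
    exact congr($(b.naturality i.op) (idealSect 𝓘 U s)))

variable (b 𝓘) in
/-- The map from the centre to the direct image of the exceptional ideal. -/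
noncomputable def vHom :
    ClSub.idealMod 𝓘 ⟶ (Scheme.Modules.pushforward b).obj (ClSub.idealMod (𝓘.comap b)) :=
  ⟨PresheafOfModules.homMk
    { app := fun U => AddCommGrpCat.ofHom (AddMonoidHom.mk' (pullIdeal U.unop) (pullIdeal_add U.unop))
      naturality := fun U V i => by
        ext s
        exact pullIdeal_res i.unop s }
    (fun U r s => pullIdeal_smul U.unop r s)⟩

lemma idealSect_vsec {U : X.Opens} (s : Γ(ClSub.idealMod 𝓘, U)) {V : X'.Opens} (h : V ≤ b ⁻¹ᵁ U) :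
    idealSect (𝓘.comap b) V (QCoh.res _ h (vsec (vHom b 𝓘) U s)) =
      b.appLE U V h (idealSect 𝓘 U s) := by
  refine (idealSect_map (𝓘.comap b) (homOfLE h) (pullIdeal U s)).trans ?_
  rw [idealSect_pullIdeal]
  rfl

/-- A frame gives an equation of the exceptional ideal. -/
lemma equation_of_frame {U : X.Opens} {s : Γ(ClSub.idealMod 𝓘, U)} {G : X'.Opens}
    (hf : Frame (vHom b 𝓘) U s G) (T : X'.affineOpens) (hT : T.1 ≤ G) :
    b.appLE U T.1 (hT.trans hf.le) (idealSect 𝓘 U s) ∈ nonZeroDivisors Γ(X', T.1) ∧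
      (𝓘.comap b).ideal T = Ideal.span {b.appLE U T.1 (hT.trans hf.le) (idealSect 𝓘 U s)} := by
  have hgen := hf.gen.restrict hT
  rw [QCoh.res_res] at hgen
  set m := QCoh.res (ClSub.idealMod (𝓘.comap b)) (hT.trans hf.le) (vsec (vHom b 𝓘) U s) with hm
  have hval : ∀ a : Γ(X', T.1), idealSect (𝓘.comap b) T.1 (a • m) =
      a * b.appLE U T.1 (hT.trans hf.le) (idealSect 𝓘 U s) := fun a => by
    rw [idealSect_smul, hm, idealSect_vsec]
  refine ⟨mem_nonZeroDivisors_iff_right.mpr fun a ha => ?_, le_antisymm (fun t ht => ?_) ?_⟩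
  · refine hgen.injective le_rfl ?_
    rw [QCoh.res_self, zero_smul]
    refine idealSect_injective (𝓘.comap b) T.1 ?_
    rw [hval, ha, map_zero]
  · obtain ⟨n, hn⟩ := IdealMod.exists_sect (𝓘.comap b) T.1 t ((IdealMod.mem_ideal_iff _ T t).mp ht)
    obtain ⟨a, ha, -⟩ := hgen.exists_eq le_rfl n
    rw [QCoh.res_self] at ha
    rw [← hn, ha, hval]
    exact Ideal.mul_mem_left _ _ (Ideal.subset_span rfl)
  · rw [Ideal.span_le, Set.singleton_subset_iff, SetLike.mem_coe]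
    have h1 := IdealMod.sect_mem (𝓘.comap b) T m
    rwa [hm, idealSect_vsec] at h1

/-- An equation coming from the centre gives a frame. -/
lemma frame_of_equation {U : X.Opens} (s : Γ(ClSub.idealMod 𝓘, U)) (T : X'.affineOpens)
    (hT : T.1 ≤ b ⁻¹ᵁ U)
    (hnz : b.appLE U T.1 hT (idealSect 𝓘 U s) ∈ nonZeroDivisors Γ(X', T.1))
    (hspan : (𝓘.comap b).ideal T = Ideal.span {b.appLE U T.1 hT (idealSect 𝓘 U s)}) :
    Frame (vHom b 𝓘) U s T.1 := by
  obtain ⟨e, he, he'⟩ := IdealMod.exists_isFrame_of_equation (𝓘.comap b) hnz hspan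
  refine ⟨hT, ?_⟩
  have h1 : QCoh.res _ hT (vsec (vHom b 𝓘) U s) = e 0 :=
    idealSect_injective _ _ ((idealSect_vsec s hT).trans he'.symm)
  rw [h1, isGen_iff_isFrame]
  convert he using 2 with i
  exact congrArg e (Subsingleton.elim 0 i)

variable (hb : BlowUp.IsBlowUp b 𝓘)
include hb

/-- Every point lies in a good affine piece cut out by an element of the centre. -/
theorem exists_piece [(ClSub.idealMod 𝓘).IsQuasicoherent] (x : X') :
    ∃ (U : X.Opens) (_ : IsAffineOpen U) (s : Γ(ClSub.idealMod 𝓘, U))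
      (c : Γ(X', gLoc (vHom b 𝓘) U s)),
      c ∈ coefRing (vHom b 𝓘) U s (gLoc (vHom b 𝓘) U s) ∧ x ∈ X'.basicOpen c ∧
        Good (coefRing (vHom b 𝓘) U s (gLoc (vHom b 𝓘) U s)) c := by
  obtain ⟨U, hU, hxU, -⟩ := exists_isAffineOpen_mem_and_subset (x := b x) (U := ⊤) trivial
  let A := Γ(X, U)
  let I : Ideal A := 𝓘.ideal ⟨U, hU⟩
  have hcen : Scheme.IdealSheafData.ofIdealTop
      (I.map (Scheme.ΓSpecIso (CommRingCat.of A)).inv.hom) = 𝓘.comap hU.fromSpec := by
    have := BlowUp.RelAmple.centre_comap_eq (𝓘 := 𝓘) hU.fromSpec ⟨U, hU⟩ (𝟙 _) (Category.id_comp _)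
    rwa [Scheme.IdealSheafData.comap_id] at this
  have hb' := BlowUp.Basic.flat_baseChange hU.fromSpec hb
  rw [← hcen] at hb'
  obtain ⟨z, -, hz⟩ := Scheme.Pullback.exists_preimage_pullback
    (f := hU.fromSpec) (g := b) (hU.primeIdealOf ⟨b x, hxU⟩) x (hU.fromSpec_primeIdealOf ⟨b x, hxU⟩)
  obtain ⟨a, ha, V, e, hzV, he⟩ := S1695.result A I (pullback.fst hU.fromSpec b) hb' z
  obtain ⟨s, hs⟩ := IdealMod.exists_sect 𝓘 U a ((IdealMod.mem_ideal_iff 𝓘 ⟨U, hU⟩ a).mp ha)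
  let C := BlowUp.AffineChart.Chart I a
  let j : Spec (CommRingCat.of C) ⟶ X' := e.inv ≫ V.ι ≫ pullback.snd hU.fromSpec b
  have hjb : j ≫ b = Spec.map (CommRingCat.ofHom (algebraMap A C)) ≫ hU.fromSpec := by
    simp only [j, Category.assoc, ← pullback.condition]
    rw [← reassoc_of% he]
    simp only [Iso.inv_hom_id_assoc]
  let T : X'.affineOpens := ⟨j.opensRange, isAffineOpen_opensRange j⟩
  have hxT : x ∈ T.1 := by
    refine ⟨e.hom ⟨z, hzV⟩, ?_⟩
    simp only [j]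
    have h1 : (e.hom ≫ e.inv ≫ V.ι ≫ pullback.snd hU.fromSpec b) ⟨z, hzV⟩ =
        (V.ι ≫ pullback.snd hU.fromSpec b) ⟨z, hzV⟩ := by rw [Iso.hom_inv_id_assoc]
    exact h1.trans hz
  have hTU : T.1 ≤ b ⁻¹ᵁ U := by
    rintro _ ⟨w, rfl⟩
    show b (j w) ∈ U
    have h1 : (hU.fromSpec (Spec.map (CommRingCat.ofHom (algebraMap A C)) w)) ∈ Set.range hU.fromSpec := ⟨_, rfl⟩
    rw [hU.range_fromSpec, ← Scheme.Hom.comp_apply, ← hjb] at h1
    exact h1
  -- functions on the piece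
  have hjT : (⊤ : (Spec (CommRingCat.of C)).Opens) ≤ j ⁻¹ᵁ T.1 := fun w _ => ⟨w, rfl⟩
  let θ : Γ(X', T.1) →+* C :=
    (j.appLE T.1 ⊤ hjT ≫ (Scheme.ΓSpecIso (CommRingCat.of C)).hom).hom
  have hθ : Function.Bijective θ := by
    have h1 : IsIso (j.appLE T.1 ⊤ hjT) := by
      have h2 : T.1 = j ''ᵁ ⊤ := (j.image_top_eq_opensRange).symm
      rw [Scheme.Hom.appLE]
      haveI : IsIso (j.app T.1) := Scheme.Hom.isIso_app j T.1 le_rfl
      have h3 : (⊤ : (Spec (CommRingCat.of C)).Opens) = j ⁻¹ᵁ T.1 := le_antisymm hjT le_top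
      haveI : IsIso (homOfLE hjT) := ⟨homOfLE h3.ge, rfl, rfl⟩
      infer_instance
    exact ConcreteCategory.bijective_of_isIso (j.appLE T.1 ⊤ hjT ≫ (Scheme.ΓSpecIso (CommRingCat.of C)).hom)
  let φ := (b.appLE U T.1 hTU).hom
  have hθφ : ∀ r : A, θ (φ r) = algebraMap A C r := by
    intro r
    have e1 : j.appLE T.1 ⊤ hjT (b.appLE U T.1 hTU r) = BlowUp.AffineChart.glob (BlowUp.AffineChart.toBase I a) r := by
      rw [← CommRingCat.comp_apply, Scheme.Hom.appLE_comp_appLE]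
      refine (BlowUp.RelAmple.res_glob (j ≫ b) hU (BlowUp.AffineChart.toBase I a) hjb.symm ⊤ _ r).symm.trans ?_
      simp [BlowUp.AffineChart.res]
    show (Scheme.ΓSpecIso (CommRingCat.of C)).hom (j.appLE T.1 ⊤ hjT (b.appLE U T.1 hTU r)) = _
    rw [e1, BlowUp.AffineChart.glob_toBase]
    exact congr($((Scheme.ΓSpecIso (CommRingCat.of C)).inv_hom_id) (algebraMap A C r))
  have hideal : ∀ (W : X'.affineOpens) (hW : W.1 ≤ b ⁻¹ᵁ U),
      (𝓘.comap b).ideal W = I.map (b.appLE U W.1 hW).hom := fun W hW =>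
    IdealSh.Comap.ideal_comap 𝓘 b ⟨U, hU⟩ W hW
  have hnz : φ a ∈ nonZeroDivisors Γ(X', T.1) := by
    refine mem_nonZeroDivisors_iff_right.mpr fun q hq => hθ.1 ?_
    rw [map_zero]
    refine mem_nonZeroDivisors_iff_right.mp (BlowUp.AffineChart.algebraMap_mem_nonZeroDivisors I a) _ ?_
    rw [← hθφ, ← map_mul, hq, map_zero]
  have hdiv : ∀ r (hr : r ∈ I), ∃ q, θ q = BlowUp.AffineChart.div I a hr ∧ q * φ a = φ r := by
    intro r hr
    obtain ⟨q, hq⟩ := hθ.2 (BlowUp.AffineChart.div I a hr)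
    refine ⟨q, hq, hθ.1 ?_⟩
    rw [map_mul, hq, hθφ, hθφ, mul_comm]
    exact BlowUp.AffineChart.algebraMap_mul_div I a hr
  have hspan : (𝓘.comap b).ideal T = Ideal.span {φ a} := by
    rw [hideal T hTU]
    refine le_antisymm (Ideal.map_le_iff_le_comap.mpr fun r hr => ?_)
      ((Ideal.span_singleton_le_iff_mem _).mpr (Ideal.mem_map_of_mem _ ha))
    obtain ⟨q, -, hq⟩ := hdiv r hr
    exact Ideal.mem_span_singleton'.mpr ⟨q, hq⟩
  have hframe : Frame (vHom b 𝓘) U s T.1 :=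
    frame_of_equation s T hTU (by rw [hs]; exact hnz) (by rw [hs]; exact hspan)
  have hG : gLoc (vHom b 𝓘) U s = T.1 := by
    refine le_antisymm (fun y hy => ?_) (le_gLoc hframe)
    obtain ⟨W, hyW, hWG⟩ := IdealSh.Comap.exists_affine_le y _ hy
    obtain ⟨hWnz, hWspan⟩ := equation_of_frame (frame_gLoc (v := vHom b 𝓘) (U := U) (e := s)) W hWG
    have hWU : W.1 ≤ b ⁻¹ᵁ U := hWG.trans gLoc_le
    rw [hs] at hWnz hWspan
    obtain ⟨ψ, hψ⟩ := BlowUp.AffineChart.exists_lift I a (b.appLE U W.1 hWU).hom hWnz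
      ((hideal W hWU).symm.trans hWspan).le
    let k : W.1.toScheme ⟶ Spec (CommRingCat.of C) := W.2.isoSpec.hom ≫ Spec.map (CommRingCat.ofHom ψ)
    have hk : W.1.ι = k ≫ j := by
      refine BlowUp.Basic.hom_ext hb ?_ ?_
      · rw [Scheme.IdealSheafData.comap_comp]
        exact EffCartier.comap_of_flat W.1.ι hb.1
      · rw [Category.assoc, hjb]
        show _ = (W.2.isoSpec.hom ≫ Spec.map (CommRingCat.ofHom ψ)) ≫ _
        rw [Category.assoc, ← Spec.map_comp_assoc, ← CommRingCat.ofHom_comp, hψ, CommRingCat.ofHom_hom,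
          IsAffineOpen.SpecMap_appLE_fromSpec b hU W.2 hWU, W.2.isoSpec_hom, W.2.toSpecΓ_fromSpec_assoc]
    refine ⟨k ⟨y, hyW⟩, ?_⟩
    have h1 : (k ≫ j) ⟨y, hyW⟩ = W.1.ι ⟨y, hyW⟩ := by rw [hk]
    exact h1
  have hmem : ∀ G : X'.Opens, G = T.1 → ∀ q : Γ(X', G), q ∈ coefRing (vHom b 𝓘) U s G := by
    rintro _ rfl q
    have key : ∀ (w : Localization.Away a) (hw : w ∈ BlowUp.affineAlgebra A I a) (q : Γ(X', T.1)),
        θ q = ⟨w, hw⟩ → q ∈ coefRing (vHom b 𝓘) U s T.1 := by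
      intro w hw
      induction hw using Algebra.adjoin_induction with
      | mem w hw =>
        obtain ⟨r, hr, rfl⟩ := hw
        intro q hq
        obtain ⟨q', hq', hqq⟩ := hdiv r hr
        obtain rfl : q = q' := hθ.1 (hq.trans hq'.symm)
        obtain ⟨t, ht⟩ := IdealMod.exists_sect 𝓘 U r ((IdealMod.mem_ideal_iff 𝓘 ⟨U, hU⟩ r).mp hr)
        refine coef_mem_coefRing (z := t) hTU (idealSect_injective (𝓘.comap b) T.1 ?_)
        rw [idealSect_smul, idealSect_vsec, idealSect_vsec, ht, hs]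
        exact hqq.symm
      | algebraMap r =>
        intro q hq
        obtain rfl : q = φ r := hθ.1 (hq.trans (hθφ r).symm)
        exact appLE_mem_coefRing hTU r
      | add w w' hw hw' ih ih' =>
        intro q hq
        obtain ⟨q₁, h₁⟩ := hθ.2 ⟨w, hw⟩
        obtain ⟨q₂, h₂⟩ := hθ.2 ⟨w', hw'⟩
        obtain rfl : q = q₁ + q₂ := hθ.1 (by rw [hq, map_add, h₁, h₂]; rfl)
        exact add_mem (ih q₁ h₁) (ih' q₂ h₂)
      | mul w w' hw hw' ih ih' =>
        intro q hq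
        obtain ⟨q₁, h₁⟩ := hθ.2 ⟨w, hw⟩
        obtain ⟨q₂, h₂⟩ := hθ.2 ⟨w', hw'⟩
        obtain rfl : q = q₁ * q₂ := hθ.1 (by rw [hq, map_mul, h₁, h₂]; rfl)
        exact mul_mem (ih q₁ h₁) (ih' q₂ h₂)
    exact key _ (θ q).2 q rfl
  have hone : X'.basicOpen (1 : Γ(X', gLoc (vHom b 𝓘) U s)) = gLoc (vHom b 𝓘) U s :=
    X'.basicOpen_of_isUnit isUnit_one
  refine ⟨U, hU, s, 1, one_mem _, by rw [hone, hG]; exact hxT, ?_⟩
  constructor
  · rw [hone, hG]; exact T.2
  · intro q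
    refine ⟨0, QCoh.rres hone.ge q, hmem _ hG _, ?_⟩
    simp only [pow_zero, mul_one, QCoh.rres_rres, QCoh.rres_self]

/-- The main statement. -/
theorem isProjective (h𝓘 : BlowUp.IsFiniteTypeIdeal 𝓘) : RelProj.IsProjective b := by
  haveI : (ClSub.idealMod 𝓘).IsQuasicoherent := AmpleLib.isQCoh_idealMod 𝓘
  haveI := BlowUpProper.Basic.isProper hb h𝓘
  have hft := AmpleLib.isFT_idealMod h𝓘
  have hL := IdealSh.IdealMod.isInvertible_of_isEffCartierIdeal _ hb.1
  have hv : Gens (vHom b 𝓘) := gens_of_frames hL fun x => by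
    obtain ⟨U, -, s, c, -, hx, -⟩ := exists_piece hb x
    exact ⟨U, s, _, X'.basicOpen_le c hx, frame_gLoc⟩
  have hi := clsImm_of_good hv fun x => exists_piece hb x
  obtain ⟨B, r, hr, hri⟩ := hi
  exact isProjective_of_immersion hft B r (Cls.comp_eq B.hj B.hP hv hr)

end Groth.Agent.BlowUpBundle95
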